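import Mathlib
import Groth.Prelude.Def_W4c2gerbepatchBitors

/-!
# Right structures and isomorphism families
-/

set_option autoImplicit false

universe w v u

open CategoryTheory Opposite

namespace Groth.Agent.BitorsLib

variable {C : Type u} [Category.{v} C] {J : GrothendieckTopology C} {G H : Sheaf J GrpCat.{w}}
  {P P' : NonAbH1.GSheaf G}

theorem smul_right_cancel (hP : P.IsPseudoTorsor) {U : Cᵒᵖ} {a b : G.obj.obj U} {p : P.P.obj.obj U}
    (h : P.smul a p = P.smul b p) : a = b :=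
  (hP U p (P.smul b p)).unique h rfl

theorem rightStr_ext {ρ ρ' : Bitors.RightStr P H}
    (h : ∀ (U : Cᵒᵖ) (p : P.P.obj.obj U) (x : H.obj.obj U), ρ.rsmul p x = ρ'.rsmul p x) : ρ = ρ' := by
  cases ρ with | mk r _ _ _ _ _ =>
  cases ρ' with | mk r' _ _ _ _ _ =>
  congr
  funext U p x
  exact h U p x

theorem isomFamily_ext {φ φ' : Bitors.IsomFamily P H}
    (h : ∀ (U : Cᵒᵖ) (p : P.P.obj.obj U) (x : H.obj.obj U), φ.φ p x = φ'.φ p x) : φ = φ' := by
  cases φ with | mk r _ _ =>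
  cases φ' with | mk r' _ _ =>
  congr
  funext U p
  exact MulEquiv.ext (h U p)

theorem existsUnique_family (hP : P.IsPseudoTorsor) (ρ : Bitors.RightStr P H) :
    ∃! φ : Bitors.IsomFamily P H, ∀ (U : Cᵒᵖ) (p : P.P.obj.obj U) (h : H.obj.obj U),
      ρ.rsmul p h = P.smul (φ.φ p h) p := by
  choose a ha hau using fun (U : Cᵒᵖ) (p : P.P.obj.obj U) (h : H.obj.obj U) => hP U p (ρ.rsmul p h)
  have hmul : ∀ U p (h h' : H.obj.obj U), a U p (h * h') = a U p h * a U p h' := fun U p h h' => by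
    refine (hau U p _ _ ?_).symm
    show P.smul (a U p h * a U p h') p = ρ.rsmul p (h * h')
    rw [P.mul_smul, ha, ← ρ.smul_rsmul, ha, ρ.rsmul_mul]
  have hbij : ∀ U p, Function.Bijective (a U p) := fun U p => by
    refine ⟨fun h h' e => (ρ.existsUnique_rsmul p (ρ.rsmul p h')).unique ?_ rfl, fun g => ?_⟩
    · rw [← ha U p h, ← ha U p h', e]
    · obtain ⟨h, hh, -⟩ := ρ.existsUnique_rsmul p (P.smul g p)
      exact ⟨h, smul_right_cancel hP ((ha U p h).trans hh)⟩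
  refine ⟨⟨fun {U} p => MulEquiv.ofBijective (MonoidHom.mk' (a U p) (hmul U p)) (hbij U p), ?_, ?_⟩, ?_, ?_⟩
  · intro U V f p h
    refine hau V (P.P.obj.map f p) (H.obj.map f h) _ ?_
    show P.smul (G.obj.map f (a U p h)) (P.P.obj.map f p) = ρ.rsmul (P.P.obj.map f p) (H.obj.map f h)
    rw [← P.map_smul, ha, ρ.map_rsmul]
  · intro U g p h
    refine (hau U (P.smul g p) h _ ?_).symm
    show P.smul (g * a U p h * g⁻¹) (P.smul g p) = ρ.rsmul (P.smul g p) h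
    rw [← P.mul_smul, inv_mul_cancel_right, P.mul_smul, ha, ρ.smul_rsmul]
  · exact fun U p h => (ha U p h).symm
  · intro φ hφ
    exact isomFamily_ext fun U p h => hau U p h _ (hφ U p h).symm

theorem existsUnique_right (hP : P.IsPseudoTorsor) (φ : Bitors.IsomFamily P H) :
    ∃! ρ : Bitors.RightStr P H, ∀ (U : Cᵒᵖ) (p : P.P.obj.obj U) (h : H.obj.obj U),
      ρ.rsmul p h = P.smul (φ.φ p h) p := by
  refine ⟨⟨fun {U} p h => P.smul (φ.φ p h) p, fun p => ?_, fun p h h' => ?_, fun f p h => ?_,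
    fun g p h => ?_, fun {U} p q => ?_⟩, fun U p h => rfl, fun ρ hρ => rightStr_ext hρ⟩
  · rw [map_one, P.one_smul]
  · show P.smul (φ.φ p (h * h')) p = P.smul (φ.φ (P.smul (φ.φ p h) p) h') (P.smul (φ.φ p h) p)
    rw [φ.φ_smul, ← P.mul_smul, inv_mul_cancel_right, map_mul]
  · show P.P.obj.map f (P.smul (φ.φ p h) p) = _
    rw [P.map_smul, φ.map_φ]
  · show P.smul (φ.φ (P.smul g p) h) (P.smul g p) = P.smul g (P.smul (φ.φ p h) p)
    rw [φ.φ_smul, ← P.mul_smul, inv_mul_cancel_right, P.mul_smul]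
  · obtain ⟨g, hg, hgu⟩ := hP U p q
    refine ⟨(φ.φ p).symm g, ?_, fun h hh => ?_⟩
    · show P.smul (φ.φ p ((φ.φ p).symm g)) p = q
      rw [MulEquiv.apply_symm_apply]; exact hg
    · exact (MulEquiv.eq_symm_apply _).mpr (hgu _ hh)

theorem hom_iff (hP' : P'.IsPseudoTorsor) (ρ : Bitors.RightStr P H) (ρ' : Bitors.RightStr P' H)
    (φ : Bitors.IsomFamily P H) (φ' : Bitors.IsomFamily P' H)
    (hρ : ∀ (U : Cᵒᵖ) (p : P.P.obj.obj U) (h : H.obj.obj U), ρ.rsmul p h = P.smul (φ.φ p h) p)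
    (hρ' : ∀ (U : Cᵒᵖ) (p : P'.P.obj.obj U) (h : H.obj.obj U), ρ'.rsmul p h = P'.smul (φ'.φ p h) p)
    (f : P ⟶ P') (U : Cᵒᵖ) (p : P.P.obj.obj U) (h : H.obj.obj U) :
    f.hom.hom.app U (ρ.rsmul p h) = ρ'.rsmul (f.hom.hom.app U p) h ↔
      φ.φ p h = φ'.φ (f.hom.hom.app U p) h := by
  rw [hρ, hρ', f.map_smul]
  exact ⟨fun e => smul_right_cancel hP' e, fun e => by rw [e]⟩

theorem hom_iff_of_coversTop (hP : P.IsPseudoTorsor) (hP' : P'.IsPseudoTorsor) (ρ : Bitors.RightStr P H)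
    (ρ' : Bitors.RightStr P' H) (φ : Bitors.IsomFamily P H) (φ' : Bitors.IsomFamily P' H)
    (hρ : ∀ (U : Cᵒᵖ) (q : P.P.obj.obj U) (h : H.obj.obj U), ρ.rsmul q h = P.smul (φ.φ q h) q)
    (hρ' : ∀ (U : Cᵒᵖ) (q : P'.P.obj.obj U) (h : H.obj.obj U), ρ'.rsmul q h = P'.smul (φ'.φ q h) q)
    (Y : C) (hY : J.CoversTop (fun _ : PUnit.{w + 1} => Y))
    (p : P.P.obj.obj (op Y)) (p' : P'.P.obj.obj (op Y)) (f : P ⟶ P') (g : G.obj.obj (op Y))
    (hg : f.hom.hom.app (op Y) p = P'.smul g p') :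
    (∀ (U : Cᵒᵖ) (q : P.P.obj.obj U) (h : H.obj.obj U),
        f.hom.hom.app U (ρ.rsmul q h) = ρ'.rsmul (f.hom.hom.app U q) h) ↔
      ∀ (V : C) (t : V ⟶ Y) (h : H.obj.obj (op V)),
        φ.φ (P.P.obj.map t.op p) h =
          G.obj.map t.op g * φ'.φ (P'.P.obj.map t.op p') h * (G.obj.map t.op g)⁻¹ := by
  have hfp : ∀ (V : C) (t : V ⟶ Y), f.hom.hom.app (op V) (P.P.obj.map t.op p) =
      P'.smul (G.obj.map t.op g) (P'.P.obj.map t.op p') := fun V t => by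
    rw [NatTrans.naturality_apply, hg, P'.map_smul]
  refine ⟨fun H' V t h => ?_, fun H' U q h => ?_⟩
  · have := (hom_iff hP' ρ ρ' φ φ' hρ hρ' f _ _ h).mp (H' _ (P.P.obj.map t.op p) h)
    rw [this, hfp, φ'.φ_smul]
  · rw [hom_iff hP' ρ ρ' φ φ' hρ hρ']
    let F := G.obj ⋙ forget GrpCat
    have hF : Presheaf.IsSheaf J F := ((sheafCompose J (forget GrpCat.{w})).obj G).2
    refine (((isSheaf_iff_isSheaf_of_type J F).mp hF).isSeparated (Sieve.ofObjects _ U.unop) (hY U.unop)).ext ?_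
    intro V j hj
    obtain ⟨i, ⟨t⟩⟩ := hj
    obtain ⟨a, ha, -⟩ := hP (op V) (P.P.obj.map t.op p) (P.P.obj.map j.op q)
    show G.obj.map j.op (φ.φ q h) = G.obj.map j.op (φ'.φ (f.hom.hom.app U q) h)
    rw [φ.map_φ, φ'.map_φ, ← NatTrans.naturality_apply f.hom.hom j.op q, ← ha, φ.φ_smul, H', f.map_smul, φ'.φ_smul, hfp,
      φ'.φ_smul]

end Groth.Agent.BitorsLib
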